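import Groth.Agent.Lib.HilbFin26.Quot

/-!
# The Hilbert scheme of points maps injectively to the Grassmannian
-/

set_option autoImplicit false
set_option linter.style.haveILetI false
set_option backward.isDefEq.respectTransparency false
set_option synthInstance.maxHeartbeats 200000
universe u

noncomputable section

open CategoryTheory CategoryTheory.Limits AlgebraicGeometry Opposite TopologicalSpace
open GrothLib.QCoh (stalkLin stalkLin_comp stalkLin_germ germ_map)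
open GrothLib.QuotTan26 GrothLib.GrassCat26 GrothLib.RepLocal GrothLib.GrassSch26
open GrothLib.BCCoh (pullRes pullRes_smul pullRes_add)

namespace GrothLib.HilbFin26

variable {X S : Scheme.{u}} {f : X ⟶ S} {d : ℕ} {T T' : Over S}

/-- The map between base changes of a family. -/
theorem exists_kMap (g : T' ⟶ T) (Z : HilbD.Obj f d T) :
    ∃ k : ((Hilb26.hilb f d).map g Z).1.subscheme ⟶ Z.1.subscheme,
      k ≫ pZ Z = pZ ((Hilb26.hilb f d).map g Z) ≫ g.left ∧ k ≫ zZ Z = zZ ((Hilb26.hilb f d).map g Z) := by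
  let Z' := (Hilb26.hilb f d).map g Z
  have hle : Z.1.subschemeι.ker ≤ (Z'.1.subschemeι ≫ PicF.XTmap f g).ker := by
    rw [Scheme.IdealSheafData.ker_subschemeι, ← Scheme.IdealSheafData.map_ker, Scheme.IdealSheafData.ker_subschemeι,
      Scheme.IdealSheafData.le_map_iff_comap_le]
    show Z.1.comap _ ≤ HilbD.pull f g Z.1
    rw [HilbFun.pull_eq_comap]
  refine ⟨IsClosedImmersion.lift Z.1.subschemeι (Z'.1.subschemeι ≫ PicF.XTmap f g) hle, ?_, ?_⟩
  · rw [pZ, IsClosedImmersion.lift_fac_assoc, Category.assoc]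
    simp [pZ, PicF.XTproj, PicF.XTmap, Z']
  · rw [zZ, IsClosedImmersion.lift_fac_assoc, Category.assoc]
    simp [zZ, PicF.XTmap, Z']

theorem smul_eq_mul_Qz (Z : HilbD.Obj f d T) (V : T.left.Opens) (r : Γ(T.left, V)) (s : Γ(Qz Z, V)) :
    r • s = (show Γ(Qz Z, V) from
      (pZ Z).app V r * (show Γ(Z.1.subscheme, pZ Z ⁻¹ᵁ V) from s)) := rfl

theorem zsec_pull (g : T' ⟶ T) (Z : HilbD.Obj f d T) {U : S.Opens} {V : T.left.Opens} (hV : V ≤ T.hom ⁻¹ᵁ U)
    {V' : T'.left.Opens} (e : V' ≤ g.left ⁻¹ᵁ V) (hV' : V' ≤ T'.hom ⁻¹ᵁ U) {r : ℕ}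
    (v : Fin r → Γ(X, f ⁻¹ᵁ U)) (l : Fin r → Γ(T.left, V)) (m : Γ(X, f ⁻¹ᵁ U))
    (h : zsec Z U V hV m = ∑ c, l c • zsec Z U V hV (v c)) :
    zsec ((Hilb26.hilb f d).map g Z) U V' hV' m =
      ∑ c, g.left.appLE V V' e (l c) • zsec ((Hilb26.hilb f d).map g Z) U V' hV' (v c) := by
  obtain ⟨k, hk1, hk2⟩ := exists_kMap g Z
  let Z' := (Hilb26.hilb f d).map g Z
  have hle : pZ Z' ⁻¹ᵁ V' ≤ k ⁻¹ᵁ (pZ Z ⁻¹ᵁ V) := by
    intro x hx
    show pZ Z (k x) ∈ V
    rw [← Scheme.Hom.comp_apply, hk1, Scheme.Hom.comp_apply]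
    exact e hx
  let K : Γ(Z.1.subscheme, pZ Z ⁻¹ᵁ V) →+* Γ(Z'.1.subscheme, pZ Z' ⁻¹ᵁ V') := (k.appLE _ _ hle).hom
  have hz : ∀ m, K (zsec Z U V hV m) = zsec Z' U V' hV' m := fun m => by
    show ((zZ Z).appLE _ _ _ ≫ k.appLE _ _ hle) m = (zZ Z').appLE _ _ _ m
    rw [Scheme.Hom.appLE_comp_appLE]
    congr 2
    simp only [hk2, Z']
  have hr : ∀ r, K ((pZ Z).app V r) = (pZ Z').app V' (g.left.appLE V V' e r) := fun r => by
    show ((pZ Z).app V ≫ k.appLE _ _ hle) r = (g.left.appLE V V' e ≫ (pZ Z').app V') r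
    rw [Scheme.Hom.app_eq_appLE, Scheme.Hom.app_eq_appLE, Scheme.Hom.appLE_comp_appLE, Scheme.Hom.appLE_comp_appLE]
    congr 2
    simp only [hk1, Z']
  rw [← hz m, h]
  refine (map_sum K _ _).trans (Finset.sum_congr rfl fun c _ => ?_)
  rw [smul_eq_mul_Qz, smul_eq_mul_Qz]
  refine (map_mul K _ _).trans ?_
  rw [hr, hz]

theorem zsec_unique [IsAffineHom f] [IsAffine T.left] (Z : HilbD.Obj f d T) {U : S.Opens} (hU : IsAffineOpen U)
    (hT : ⊤ ≤ T.hom ⁻¹ᵁ U) (v : Fin d → Γ(X, f ⁻¹ᵁ U)) (l : Γ(X, f ⁻¹ᵁ U) → Fin d → Γ(T.left, ⊤))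
    (hl : ∀ m, zsec Z U ⊤ hT m = ∑ c, l m c • zsec Z U ⊤ hT (v c))
    {c c' : Fin d → Γ(T.left, ⊤)}
    (h : ∑ i, c i • zsec Z U ⊤ hT (v i) = ∑ i, c' i • zsec Z U ⊤ hT (v i)) : c = c' := by
  obtain ⟨⟨h1, h2, h3⟩, -⟩ := Z.2
  haveI : IsAffineHom (pZ Z) := h1.toIsAffineHom
  haveI : (Qz Z).IsQuasicoherent := (Euler.isCoh_of_isFinLocFree
    (FinCov.isFinLocFree_of_rank (isFinLocFreeOfRank_Qz Z))).1
  let s : Fin d → Γ(Qz Z, ⊤) := fun i => zsec Z U ⊤ hT (v i)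
  have hall : ∀ x : Γ(Qz Z, ⊤), x ∈ Submodule.span Γ(T.left, ⊤) (Set.range s) := fun x => by
    refine (Submodule.span_le.2 ?_) ((span_zsec Z hU (isAffineOpen_top _) hT).ge (Submodule.mem_top (x := x)))
    rintro _ ⟨m, rfl⟩
    rw [SetLike.mem_coe, hl m]
    exact Submodule.sum_mem _ fun i _ => Submodule.smul_mem _ _ (Submodule.subset_span ⟨i, rfl⟩)
  have hspan : ∀ y : T.left, SpanAt s y := fun y => by
    refine eq_top_iff.2 fun w _ => ?_
    obtain ⟨a, z, ha, hz⟩ := WeakAss.exists_smul_eq_germ (F := Qz Z) (isAffineOpen_top T.left) (x := y) trivial w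
    have hu : IsUnit (T.left.presheaf.germ ⊤ y trivial a) :=
      (Scheme.mem_basicOpen _ a y trivial).mp (WeakAss.notMem_primeAt_iff.mp ha)
    rw [show w = ((hu.unit⁻¹ : _ˣ) : T.left.presheaf.stalk y) • (Qz Z).presheaf.germ ⊤ y trivial z by
      rw [← hz, smul_smul, IsUnit.val_inv_mul, one_smul]]
    refine Submodule.smul_mem _ _ ?_
    have hz' := hall z
    clear hz
    induction hz' using Submodule.span_induction with
    | mem b hb => obtain ⟨i, rfl⟩ := hb; exact Submodule.subset_span ⟨i, rfl⟩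
    | zero => rw [map_zero]; exact zero_mem _
    | add p q _ _ hp hq => rw [map_add]; exact add_mem hp hq
    | smul r p _ hp => rw [WeakAss.germ_smul]; exact Submodule.smul_mem _ _ hp
  exact (exists_coeff (isFinLocFreeOfRank_Qz Z) s hspan _).unique rfl h.symm

/-- Two families over an affine base with the same coefficients are equal. -/
theorem eq_of_coeff [IsAffineHom f] [IsAffine T.left] (Z₁ Z₂ : HilbD.Obj f d T) {U : S.Opens} (hU : IsAffineOpen U)
    (hT : ⊤ ≤ T.hom ⁻¹ᵁ U) (v : Fin d → Γ(X, f ⁻¹ᵁ U)) (l : Γ(X, f ⁻¹ᵁ U) → Fin d → Γ(T.left, ⊤))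
    (h₁ : ∀ m, zsec Z₁ U ⊤ hT m = ∑ c, l m c • zsec Z₁ U ⊤ hT (v c))
    (h₂ : ∀ m, zsec Z₂ U ⊤ hT m = ∑ c, l m c • zsec Z₂ U ⊤ hT (v c)) : Z₁ = Z₂ := by
  let Y := PicF.XT f T
  haveI : IsAffineHom (PicF.XTproj f T) := MorphismProperty.pullback_snd _ _ ‹_›
  haveI : IsAffine Y := isAffine_of_isAffineHom (PicF.XTproj f T)
  have hsq : IsPullback (pullback.fst f T.hom) (PicF.XTproj f T) f T.hom := IsPullback.of_hasPullback f T.hom
  have hW : (⊤ : Y.Opens) = pullback.fst f T.hom ⁻¹ᵁ (f ⁻¹ᵁ U) ⊓ PicF.XTproj f T ⁻¹ᵁ ⊤ := by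
    refine (eq_top_iff.2 fun y _ => ⟨?_, trivial⟩).symm
    show f (pullback.fst f T.hom y) ∈ U
    rw [← Scheme.Hom.comp_apply, hsq.w, Scheme.Hom.comp_apply]
    exact hT trivial
  haveI := isIso_pushoutSection_of_isAffineOpen hsq hT (le_refl (f ⁻¹ᵁ U)) hW hU (isAffineOpen_top _) (hU.preimage f)
  have hpo := (isIso_pushoutSection_iff hsq hT (le_refl (f ⁻¹ᵁ U)) hW).1 inferInstance
  have hspan := span_range_of_isPushout hpo.flip
  letI : Algebra Γ(T.left, ⊤) Γ(Y, ⊤) :=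
    ((PicF.XTproj f T).appLE ⊤ ⊤ (hW.le.trans inf_le_right)).hom.toAlgebra
  let im : ∀ (Z : HilbD.Obj f d T), Γ(Y, ⊤) → Γ(Qz Z, ⊤) := fun Z w =>
    (show Γ(Qz Z, ⊤) from Z.1.subschemeι.app ⊤ w)
  have hlin : ∀ (Z : HilbD.Obj f d T) (c : Γ(T.left, ⊤)) w, im Z (c • w) = c • im Z w := fun Z c w => by
    show Z.1.subschemeι.app ⊤ (c • w) =
      (show Γ(Z.1.subscheme, Z.1.subschemeι ⁻¹ᵁ ⊤) from (pZ Z).app ⊤ c) * Z.1.subschemeι.app ⊤ w
    rw [Algebra.smul_def, map_mul, RingHom.algebraMap_toAlgebra]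
    refine congrArg (· * _) ?_
    show _ = (Z.1.subschemeι ≫ PicF.XTproj f T).app ⊤ c
    rw [Scheme.Hom.comp_app, Scheme.Hom.app_eq_appLE (PicF.XTproj f T)]
    rfl
  have him0 : ∀ Z : HilbD.Obj f d T, im Z 0 = 0 := fun Z => map_zero (Z.1.subschemeι.app ⊤).hom
  have hima : ∀ (Z : HilbD.Obj f d T) x y, im Z (x + y) = im Z x + im Z y := fun Z x y =>
    map_add (Z.1.subschemeι.app ⊤).hom x y
  have key : ∀ w : Γ(Y, ⊤), ∃ c : Fin d → Γ(T.left, ⊤),
      im Z₁ w = ∑ i, c i • zsec Z₁ U ⊤ hT (v i) ∧ im Z₂ w = ∑ i, c i • zsec Z₂ U ⊤ hT (v i) := by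
    intro w
    have hwm : w ∈ Submodule.span Γ(T.left, ⊤) _ := hspan.ge (Submodule.mem_top (x := w))
    induction hwm using Submodule.span_induction with
    | mem w hw =>
      obtain ⟨m, rfl⟩ := hw
      have hz : ∀ Z : HilbD.Obj f d T, im Z ((pullback.fst f T.hom).appLE (f ⁻¹ᵁ U) ⊤ (hW.le.trans inf_le_left) m) =
          zsec Z U ⊤ hT m := fun Z => by
        show Z.1.subschemeι.app ⊤ _ = (zZ Z).appLE _ _ _ m
        rw [Scheme.Hom.app_eq_appLE, ← ConcreteCategory.comp_apply, Scheme.Hom.appLE_comp_appLE]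
      exact ⟨l m, (hz Z₁).trans (h₁ m), (hz Z₂).trans (h₂ m)⟩
    | zero => exact ⟨0, (him0 Z₁).trans (Finset.sum_eq_zero fun x _ => zero_smul _ _).symm,
        (him0 Z₂).trans (Finset.sum_eq_zero fun x _ => zero_smul _ _).symm⟩
    | add a b _ _ ha hb =>
      obtain ⟨ca, ha1, ha2⟩ := ha
      obtain ⟨cb, hb1, hb2⟩ := hb
      refine ⟨ca + cb, ?_, ?_⟩
      · rw [hima, ha1, hb1]
        simp only [Pi.add_apply, add_smul, Finset.sum_add_distrib]
      · rw [hima, ha2, hb2]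
        simp only [Pi.add_apply, add_smul, Finset.sum_add_distrib]
    | smul r a _ ha =>
      obtain ⟨ca, ha1, ha2⟩ := ha
      refine ⟨r • ca, ?_, ?_⟩
      · rw [hlin, ha1, Finset.smul_sum]
        simp [smul_smul]
      · rw [hlin, ha2, Finset.smul_sum]
        simp [smul_smul]
  refine Subtype.ext (Scheme.IdealSheafData.ext_of_isAffine ?_)
  ext w
  rw [← Scheme.IdealSheafData.ker_subschemeι_app, ← Scheme.IdealSheafData.ker_subschemeι_app, RingHom.mem_ker,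
    RingHom.mem_ker]
  obtain ⟨c, hc1, hc2⟩ := key w
  constructor
  · intro h0
    have : c = 0 := zsec_unique Z₁ hU hT v l h₁ (hc1.symm.trans ((show im Z₁ w = 0 from h0).trans (Finset.sum_eq_zero fun x _ => zero_smul _ _).symm))
    show im Z₂ w = 0
    rw [hc2, this]
    exact Finset.sum_eq_zero fun x _ => zero_smul _ _
  · intro h0
    have : c = 0 := zsec_unique Z₂ hU hT v l h₂ (hc2.symm.trans ((show im Z₂ w = 0 from h0).trans (Finset.sum_eq_zero fun x _ => zero_smul _ _).symm))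
    show im Z₁ w = 0
    rw [hc1, this]
    exact Finset.sum_eq_zero fun x _ => zero_smul _ _

section Classify

variable [IsAffineHom f] [(Eo f).IsQuasicoherent] {H : Over S} (Z : HilbD.Obj f d H)

/-- The point of the Grassmannian attached to a family. -/
def ptZ : Obj (Eo f) d H := mkQ (qZ Z) (epi_qZ Z) (isFinLocFreeOfRank_Qz Z)

theorem exists_coeff_loc (U : S.affineOpens) (v : Fin d → Γ(X, f ⁻¹ᵁ U.1)) (V : H.left.Opens)
    (hV : V ≤ loc U (fun c => nu U (Eo f) (show Γ(Eo f, U.1) from v c)) H (ptZ Z)) (hVU : V ≤ H.hom ⁻¹ᵁ U.1) :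
    ∃ (a : opn H V ⟶ S0 U) (l : Γ(X, f ⁻¹ᵁ U.1) → Fin d → Γ(H.left, V)),
      (∀ m, zsec Z U.1 V hVU m = ∑ c, l m c • zsec Z U.1 V hVU (v c)) ∧
      Good U a (fun c => nu U (Eo f) (show Γ(Eo f, U.1) from v c)) (bc (opnι H V) (qZ Z)) ∧
      ∃ lU' : MS (Eo f) U → Fin d → Γ((opn H V).left, ⊤),
        IsCoeff U a (fun c => nu U (Eo f) (show Γ(Eo f, U.1) from v c)) (bc (opnι H V) (qZ Z)) lU' ∧
        ∀ (m : Γ(X, f ⁻¹ᵁ U.1)) c, lU' (nu U (Eo f) (show Γ(Eo f, U.1) from m)) c =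
          V.ι.appLE V ⊤ (fun x _ => x.2) (l m c) := by
  haveI := epi_qZ Z
  let J : Fin d → MS (Eo f) U := fun c => nu U (Eo f) (show Γ(Eo f, U.1) from v c)
  let a : opn H V ⟶ S0 U := opnMap H hVU ≫ aW U H
  have hgood : Good U a J (bc (opnι H V) (qZ Z)) :=
    ⟨OX.isFinLocFreeOfRank_pullback (opnι H V).left (isFinLocFreeOfRank_Qz Z), fun z => by
      refine (mem_loc_iff_spanAt U J a _ inferInstance
        (OX.isFinLocFreeOfRank_pullback (opnι H V).left (isFinLocFreeOfRank_Qz Z)) z).1 ?_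
      rw [← omap_mkQ, loc_omap]
      exact hV z.2⟩
  obtain ⟨lU', hlU'⟩ := hgood.exists_coeff
  let e : (⊤ : (opn H V).left.Opens) ≤ V.ι ⁻¹ᵁ V := fun x _ => x.2
  have hbij : Function.Bijective (pullRes V.ι (Qz Z) V ⊤ e) :=
    HilbStrat10.bijective_pullRes V.ι (Qz Z) (by rw [Scheme.Opens.ι_image_top]) e
  have hρ : Function.Bijective (V.ι.appLE V ⊤ e) := by
    haveI : IsIso (V.ι.app V) := Scheme.Hom.isIso_app V.ι V (le_of_eq (Scheme.Opens.opensRange_ι V).symm)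
    have h : (⊤ : (V : Scheme.{u}).Opens) = V.ι ⁻¹ᵁ V := le_antisymm (fun x _ => x.2) le_top
    haveI : IsIso (homOfLE e).op := by
      rw [show (homOfLE e).op = (eqToHom h).op from Subsingleton.elim _ _]
      infer_instance
    rw [Scheme.Hom.appLE]
    exact ConcreteCategory.bijective_of_isIso _
  choose l hl using fun (m : Γ(X, f ⁻¹ᵁ U.1)) c => hρ.2 (lU' (nu U (Eo f) (show Γ(Eo f, U.1) from m)) c)
  refine ⟨a, l, fun m => hbij.1 ?_, hgood, lU', hlU', fun m c => (hl m c).symm⟩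
  rw [← app_secT_nu Z U V hVU a e m, hlU']
  let φ : Γ(Qz Z, V) →+ Γ((Scheme.Modules.pullback V.ι).obj (Qz Z), (⊤ : (V : Scheme.{u}).Opens)) :=
    AddMonoidHom.mk' (pullRes V.ι (Qz Z) V ⊤ e) (pullRes_add _ _ _ _ _)
  show _ = φ _
  rw [map_sum]
  refine Finset.sum_congr rfl fun c _ => ?_
  show _ = pullRes V.ι (Qz Z) V ⊤ e (l m c • zsec Z U.1 V hVU (v c))
  rw [pullRes_smul, hl, ← app_secT_nu Z U V hVU a e (v c)]

theorem mono_classify {H : Over S} {Z : HilbD.Obj f d H} (hZ : HilbD.IsUniversal f d H Z) {M : Over S}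
    {m₀ : Obj (Eo f) d M} (hm : ∀ (T : Over S) (x : Obj (Eo f) d T), ∃! a : T ⟶ M, omap a m₀ = x)
    (c : H ⟶ M) (hc : omap c m₀ = ptZ Z) : Mono c := by
  refine ⟨fun {T} a b hab => ?_⟩
  suffices key : (Hilb26.hilb f d).map a Z = (Hilb26.hilb f d).map b Z by
    obtain ⟨w, -, hu⟩ := hZ T ((Hilb26.hilb f d).map a Z)
    exact (hu a rfl).trans (hu b (congrArg Subtype.val key).symm).symm
  have hab' : omap a (ptZ Z) = omap b (ptZ Z) := by
    rw [← hc, ← omap_comp, ← omap_comp, hab]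
  have cov : ∀ t : T.left, ∃ W : T.left.Opens, t ∈ W ∧
      (Hilb26.hilb f d).map (opnι T W) ((Hilb26.hilb f d).map a Z) =
        (Hilb26.hilb f d).map (opnι T W) ((Hilb26.hilb f d).map b Z) := by
    intro t
    obtain ⟨U, J, hJ⟩ := exists_mem_loc T (omap a (ptZ Z)) t
    choose v hv using fun i => nu_surjective U (Eo f) (J i)
    obtain rfl : (fun i => nu U (Eo f) (v i)) = J := funext hv
    have hbJ : t ∈ loc U _ T (omap b (ptZ Z)) := hab' ▸ hJ
    rw [loc_omap] at hJ hbJ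
    let L : H.left.Opens := loc U (fun i => nu U (Eo f) (v i)) H (ptZ Z)
    obtain ⟨V, hV, htV, hVle⟩ := exists_isAffineOpen_mem_and_subset (x := a.left t) (U := L) hJ
    obtain ⟨V', hV', htV', hV'le⟩ := exists_isAffineOpen_mem_and_subset (x := b.left t) (U := L) hbJ
    obtain ⟨W, hW, htW, hWle⟩ := exists_isAffineOpen_mem_and_subset (x := t)
      (U := a.left ⁻¹ᵁ V ⊓ b.left ⁻¹ᵁ V') ⟨htV, htV'⟩
    refine ⟨W, htW, ?_⟩
    haveI : IsAffine (opn T W).left := hW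
    let a' := opnι T W ≫ a
    let b' := opnι T W ≫ b
    rw [← (Hilb26.hilb f d).map_comp, ← (Hilb26.hilb f d).map_comp]
    have hVU : V ≤ H.hom ⁻¹ᵁ U.1 := fun p hp => loc_le U _ H _ (hVle hp)
    have hV'U : V' ≤ H.hom ⁻¹ᵁ U.1 := fun p hp => loc_le U _ H _ (hV'le hp)
    obtain ⟨s, l, hl, hgood, lU', hlU', hcomp⟩ := exists_coeff_loc Z U v V (fun p hp => hVle hp) hVU
    obtain ⟨s', l', hl', hgood', lU'', hlU'', hcomp'⟩ := exists_coeff_loc Z U v V' (fun p hp => hV'le hp) hV'U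
    have eA : (⊤ : (opn T W).left.Opens) ≤ a'.left ⁻¹ᵁ V := fun p _ => (hWle p.2).1
    have eB : (⊤ : (opn T W).left.Opens) ≤ b'.left ⁻¹ᵁ V' := fun p _ => (hWle p.2).2
    have hT : (⊤ : (opn T W).left.Opens) ≤ (opn T W).hom ⁻¹ᵁ U.1 := fun p _ => by
      show (opn T W).hom p ∈ U.1
      rw [← Over.w a', Scheme.Hom.comp_apply]
      exact hVU (eA trivial)
    let gA : opn T W ⟶ opn H V := Over.homMk (IsOpenImmersion.lift V.ι a'.left (by
        rintro _ ⟨p, rfl⟩; exact ⟨⟨_, eA (x := p) trivial⟩, rfl⟩))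
      ((IsOpenImmersion.lift_fac_assoc _ _ _ _).trans (Over.w a'))
    let gB : opn T W ⟶ opn H V' := Over.homMk (IsOpenImmersion.lift V'.ι b'.left (by
        rintro _ ⟨p, rfl⟩; exact ⟨⟨_, eB (x := p) trivial⟩, rfl⟩))
      ((IsOpenImmersion.lift_fac_assoc _ _ _ _).trans (Over.w b'))
    have hgA : gA ≫ opnι H V = a' := Over.OverMorphism.ext (IsOpenImmersion.lift_fac _ _ _)
    have hgB : gB ≫ opnι H V' = b' := Over.OverMorphism.ext (IsOpenImmersion.lift_fac _ _ _)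
    have hAB : omap gA (mkQ (bc (opnι H V) (qZ Z)) (by haveI := epi_qZ Z; infer_instance)
          (OX.isFinLocFreeOfRank_pullback (opnι H V).left (isFinLocFreeOfRank_Qz Z))) =
        omap gB (mkQ (bc (opnι H V') (qZ Z)) (by haveI := epi_qZ Z; infer_instance)
          (OX.isFinLocFreeOfRank_pullback (opnι H V').left (isFinLocFreeOfRank_Qz Z))) := by
      haveI := epi_qZ Z
      rw [← omap_mkQ (opnι H V) (qZ Z) (epi_qZ Z), ← omap_mkQ (opnι H V') (qZ Z) (epi_qZ Z), ← omap_comp,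
        ← omap_comp, hgA, hgB]
      show omap (opnι T W ≫ a) (ptZ Z) = omap (opnι T W ≫ b) (ptZ Z)
      rw [omap_comp, omap_comp, hab']
    haveI := epi_qZ Z
    rw [omap_mkQ, omap_mkQ] at hAB
    obtain ⟨ε, hε⟩ := mkQ_eq_iff.1 hAB
    have hcA := hlU'.bc gA
    obtain hs : gB ≫ s' = gA ≫ s := Subsingleton.elim _ _
    have hcB := hlU''.bc gB
    have hgB' := hgood'.bc gB
    rw [hs] at hcB hgB'
    have hcA' := hcA.comp_iso ε
    rw [hε] at hcA'
    have heq := hgB'.coeff_unique hcA' hcB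
    refine eq_of_coeff _ _ U.2 hT v (fun m i => a'.left.appLE V ⊤ eA (l m i)) (fun m => ?_) fun m => ?_
    · exact zsec_pull a' Z hVU eA hT v (l m) m (hl m)
    · have h2 := zsec_pull b' Z hV'U eB hT v (l' m) m (hl' m)
      refine h2.trans (Finset.sum_congr rfl fun i _ => congrArg (· • _) ?_)
      have h3 := congrFun (congrFun heq (nu U (Eo f) (show Γ(Eo f, U.1) from m))) i
      rw [hcomp, hcomp'] at h3
      have key : ∀ (V : H.left.Opens) (g : opn T W ⟶ opn H V) (a' : opn T W ⟶ H) (hg : g ≫ opnι H V = a')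
          (e : (⊤ : (opn T W).left.Opens) ≤ a'.left ⁻¹ᵁ V) (x : Γ(H.left, V)),
          g.left.appTop (V.ι.appLE V ⊤ (fun p _ => p.2) x) = a'.left.appLE V ⊤ e x := by
        intro V g a' hg e x
        subst hg
        show (V.ι.appLE V ⊤ _ ≫ g.left.app ⊤) x = _
        rw [Scheme.Hom.app_eq_appLE, Scheme.Hom.appLE_comp_appLE]
        rfl
      rw [← key V gA a' hgA eA, ← key V' gB b' hgB eB]
      exact h3.symm
  choose W htW hW using cov
  exact (Hilb26.isSheaf_hilb f d).ext (T := T) W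
    (IsOpenCover.mk (top_le_iff.1 fun t _ => Opens.mem_iSup.2 ⟨t, htW t⟩)) hW

end Classify

end GrothLib.HilbFin26
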