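import Groth.Agent.Lib.Hilb26.Affine
import Groth.Agent.Lib.Hilb26.Closed
import Groth.Agent.Lib.Grass26.Pluecker
import Groth.Agent.Lib.Chow.Prod
import Mathlib.AlgebraicGeometry.Morphisms.Finite
import Mathlib.AlgebraicGeometry.Morphisms.Proper

/-!
# Properness of the Hilbert scheme of points of a finite morphism
-/

set_option autoImplicit false
set_option linter.style.haveILetI false
set_option backward.isDefEq.respectTransparency false
set_option synthInstance.maxHeartbeats 200000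
universe u

noncomputable section

open CategoryTheory CategoryTheory.Limits AlgebraicGeometry TensorProduct

namespace GrothLib.HilbFin26

open GrothLib GrothLib.RepLocal GrothLib.HilbFun GrothLib.Hilb26

variable {X S : Scheme.{u}} (f : X ⟶ S) (d : ℕ)
variable {R : Type u} [CommRing R] {A₀ : Type u} [CommRing A₀] [Algebra R A₀]
  {u₀ : Spec (CommRingCat.of R) ⟶ S} {a : Spec (CommRingCat.of A₀) ⟶ X}
  (hX : IsPullback a (Spec.map (CommRingCat.ofHom (algebraMap R A₀))) f u₀)

/-- A point of a base change as a morphism over the base. -/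
def ptB {H : Over S} {B : CommAlgCat.{u} R} (g : Grass26.Pt (Over.mk (pullback.fst u₀ H.hom)) B) :
    tSpec u₀ B ⟶ H :=
  Over.homMk (g.left ≫ pullback.snd u₀ H.hom) (by
    rw [Category.assoc, ← pullback.condition]
    show (g.left ≫ pullback.fst u₀ H.hom) ≫ u₀ = _
    exact congrArg (· ≫ u₀) (Over.w g))

theorem tHom_ptB {H : Over S} {A B : CommAlgCat.{u} R} (φ : A ⟶ B)
    (g : Grass26.Pt (Over.mk (pullback.fst u₀ H.hom)) A) :
    tHom u₀ φ ≫ ptB g = ptB (Grass26.res φ g) :=
  Over.OverMorphism.ext (Category.assoc _ _ _).symm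

theorem ptB_bijective {H : Over S} (B : CommAlgCat.{u} R) :
    Function.Bijective (ptB (u₀ := u₀) (H := H) (B := B)) := by
  refine ⟨fun g g' h => ?_, fun p => ?_⟩
  · refine Over.OverMorphism.ext (pullback.hom_ext ((Over.w g).trans (Over.w g').symm) ?_)
    exact congrArg (fun t => t.left) h
  · exact ⟨Over.homMk (pullback.lift (Spec.map (CommRingCat.ofHom (algebraMap R B))) p.left (Over.w p).symm)
      (pullback.lift_fst _ _ _), Over.OverMorphism.ext (pullback.lift_snd _ _ _)⟩

include hX in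
theorem isProper_pullback [IsOpenImmersion u₀] [Module.Finite R A₀] {Hg : Over S} {Zg : HilbD.Obj f d Hg}
    (hg : HilbD.IsUniversal f d Hg Zg) : IsProper (pullback.fst u₀ Hg.hom) := by
  classical
  obtain ⟨n, v₀, hv₀⟩ := Module.Finite.exists_fin' R A₀
  let N := n + d
  let bM : Module.Basis (ULift.{u} (Fin N)) R (ULift.{u} (Fin N) → R) := Pi.basisFun R _
  let v : (ULift.{u} (Fin N) → R) →ₗ[R] A₀ :=
    bM.constr R fun i => if h : (i.down : ℕ) < n then v₀ (Pi.single ⟨i.down, h⟩ 1) else 0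
  have hv : Function.Surjective v := by
    rw [← LinearMap.range_eq_top, eq_top_iff, ← LinearMap.range_eq_top.2 hv₀, LinearMap.range_eq_map,
      ← (Pi.basisFun R (Fin n)).span_eq, Submodule.map_span, Submodule.span_le]
    rintro _ ⟨_, ⟨j, rfl⟩, rfl⟩
    refine ⟨bM ⟨Fin.castAdd d j⟩, ?_⟩
    show bM.constr R _ (bM _) = _
    rw [Module.Basis.constr_basis, dif_pos (show ((Fin.castAdd d j : Fin N) : ℕ) < n from j.2), Pi.basisFun_apply]
    rfl
  let 𝔄 := Grass26.grassAtlas d bM
  obtain ⟨c₀, hc₀, hc₀'⟩ := Grass26.exists_pluecker_rep (R := R) (Nat.le_add_left d n) bM 𝔄.X 𝔄.equiv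
    fun A B φ g g' h => 𝔄.equiv_natural A B φ g g' h
  haveI : IsProper 𝔄.X.hom := by
    rw [← hc₀']
    haveI := hc₀
    exact MorphismProperty.comp_mem _ _ _ inferInstance (Chow.isProper_toBase _ _)
  obtain ⟨X₂, e₂, he₂⟩ := Grass26.exists_rep_of_surjective v hv 𝔄.X 𝔄.equiv
    fun A B φ g g' h => 𝔄.equiv_natural A B φ g g' h
  haveI : IsProper X₂.hom := by
    obtain ⟨⟨c, hc⟩, hcl⟩ := Grass26.isClosedImmersion_comap v hv 𝔄.X X₂ 𝔄.equiv
      (fun A B φ g g' h => 𝔄.equiv_natural A B φ g g' h) e₂ he₂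
    haveI := hcl c hc
    rw [← Over.w c]
    exact MorphismProperty.comp_mem _ _ _ inferInstance inferInstance
  obtain ⟨Z, ι, hι, hZ⟩ := Grass26.exists_stable_closedSubscheme A₀ X₂ e₂ he₂
  haveI := hι
  let H : Over (Spec (CommRingCat.of R)) := Over.mk (ι ≫ X₂.hom)
  let i : H ⟶ X₂ := Over.homMk ι rfl
  have hideal : ∀ (B : CommAlgCat.{u} R) (g : Grass26.Pt H B),
      ∃ J : Ideal (↑B ⊗[R] A₀), J.restrictScalars (B : Type u) = (e₂ B (g ≫ i)).toSubmodule := by
    intro B g
    have hst := (hZ B (g ≫ i)).1 ⟨g.left, rfl⟩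
    refine ⟨{ (e₂ B (g ≫ i)).toSubmodule.toAddSubmonoid with smul_mem' := fun c x hx => ?_ }, rfl⟩
    induction c with
    | zero => rw [zero_smul]; exact zero_mem (e₂ B (g ≫ i)).toSubmodule
    | tmul b m =>
      rw [smul_eq_mul, show b ⊗ₜ[R] m = b • ((1 : B) ⊗ₜ[R] m) by rw [TensorProduct.smul_tmul', smul_eq_mul, mul_one],
        smul_mul_assoc]
      exact Submodule.smul_mem _ _ (hst m x hx)
    | add y z hy hz => rw [add_smul]; exact (e₂ B (g ≫ i)).toSubmodule.add_mem hy hz
  choose J hJ using hideal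
  have hmem : ∀ (B : CommAlgCat.{u} R) (g : Grass26.Pt H B),
      Mor2.IsFinLocFreeOfDeg d ((toSch f hX B (J B g)).subschemeι ≫ PicF.XTproj f (tSpec u₀ B)) := by
    intro B g
    rw [toSch_mem_iff]
    let G := e₂ B (g ≫ i)
    let eq := (Submodule.quotEquivOfEq _ _ (hJ B g).symm).trans
      (Submodule.Quotient.restrictScalarsEquiv (B : Type u) (J B g))
    exact ⟨Module.Finite.equiv eq, Module.Projective.of_equiv eq,
      fun p => (congrFun (Module.rankAtStalk_eq_of_equiv eq.symm) p).trans (G.rankAtStalk_eq p)⟩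
  have hbij : ∀ B : CommAlgCat.{u} R, Function.Bijective
      (fun g : Grass26.Pt H B => (⟨toSch f hX B (J B g), hmem B g⟩ : HilbD.Obj f d (tSpec u₀ B))) := by
    intro B
    refine ⟨fun g g' h => ?_, fun Z' => ?_⟩
    · have h' : J B g = J B g' := toSch_injective f hX B (congrArg Subtype.val h)
      have h1 : g ≫ i = g' ≫ i := (e₂ B).injective (Module.Grassmannian.ext (by rw [← hJ, ← hJ, h']))
      ext1
      exact (cancel_mono ι).1 (congrArg CategoryTheory.Over.Hom.left h1)
    · obtain ⟨J', hJ'⟩ := exists_toSch_eq f hX B Z'.1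
      obtain ⟨h1, h2, h3⟩ := (toSch_mem_iff f d hX B J').1 (hJ' ▸ Z'.2)
      let eq := Submodule.Quotient.restrictScalarsEquiv (B : Type u) J'
      let G : (Grass26.GrF R A₀ d).obj B :=
        { toSubmodule := J'.restrictScalars (B : Type u)
          finite_quotient := Module.Finite.equiv eq.symm
          projective_quotient := Module.Projective.of_equiv eq.symm
          rankAtStalk_eq := fun p => (congrFun (Module.rankAtStalk_eq_of_equiv eq) p).trans (h3 p) }
      obtain ⟨h, hh⟩ := (hZ B ((e₂ B).symm G)).2 (by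
        rw [Equiv.apply_symm_apply]
        exact fun m x hx => Ideal.mul_mem_left J' _ hx)
      let g : Grass26.Pt H B := Over.homMk h (by
        show h ≫ ι ≫ X₂.hom = _
        rw [reassoc_of% hh]
        exact Over.w ((e₂ B).symm G))
      refine ⟨g, Subtype.ext ?_⟩
      show toSch f hX B (J B g) = Z'.1
      rw [← hJ']
      congr 1
      refine Submodule.restrictScalars_injective (B : Type u) (↑B ⊗[R] A₀) (↑B ⊗[R] A₀) ?_
      rw [hJ, show g ≫ i = (e₂ B).symm G by ext1; exact hh, Equiv.apply_symm_apply]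
  let e : ∀ B : CommAlgCat.{u} R, Grass26.Pt H B ≃ HilbD.Obj f d (tSpec u₀ B) := fun B => Equiv.ofBijective _ (hbij B)
  have hnat : ∀ (A B : CommAlgCat.{u} R) (φ : A ⟶ B) (g : Grass26.Pt H A),
      (e B (Grass26.res φ g)).1 = HilbD.pull f (tHom u₀ φ) (e A g).1 := by
    intro A B φ g
    show toSch f hX B (J B (Grass26.res φ g)) = HilbD.pull f (tHom u₀ φ) (toSch f hX A (J A g))
    rw [pull_toSch]
    congr 1
    have hspan : (J B (Grass26.res φ g)).restrictScalars (B : Type u) =
        Submodule.span (B : Type u) (Grass26.chg φ.hom '' (J A g : Set (↑A ⊗[R] A₀))) := by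
      rw [hJ, he₂ A B φ (g ≫ i) (Grass26.res φ g ≫ i) (by simp [Grass26.res_left])]
      show (Module.Grassmannian.map φ.hom _).toSubmodule = _
      rw [Grass26.map_eq_span, ← hJ]
      rfl
    have hΦ : ∀ z : ↑A ⊗[R] A₀, (tpMap φ).hom z = Grass26.chg φ.hom z := fun z => by
      induction z with
      | zero => exact (map_zero _).trans (map_zero _).symm
      | tmul x m => exact Algebra.TensorProduct.map_tmul _ _ _ _
      | add x y hx hy => exact (map_add _ _ _).trans ((congrArg₂ (· + ·) hx hy).trans (map_add _ _ _).symm)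
    refine le_antisymm (fun z hz => ?_) (Ideal.map_le_iff_le_comap.2 fun z hz => ?_)
    · have : z ∈ Submodule.span (B : Type u) (Grass26.chg φ.hom '' (J A g : Set (↑A ⊗[R] A₀))) := hspan ▸ hz
      clear hz
      induction this using Submodule.span_induction with
      | mem x hx => obtain ⟨y, hy, rfl⟩ := hx; rw [← hΦ]; exact Ideal.mem_map_of_mem _ hy
      | zero => exact zero_mem _
      | add x y _ _ hx hy => exact add_mem hx hy
      | smul c x _ hx => rw [Algebra.smul_def]; exact Ideal.mul_mem_left _ _ hx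
    · rw [Ideal.mem_comap, hΦ, ← Submodule.restrictScalars_mem (B : Type u), hspan]
      exact Submodule.subset_span ⟨z, hz, rfl⟩
  let X' : Over (Spec (CommRingCat.of R)) := Over.mk (pullback.fst u₀ Hg.hom)
  let e'₀ : ∀ B : CommAlgCat.{u} R, Grass26.Pt X' B → HilbD.Obj f d (tSpec u₀ B) := fun B g =>
    (hilb f d).map (ptB g) Zg
  have hbij' : ∀ B, Function.Bijective (e'₀ B) := fun B => by
    refine ⟨fun g g' h => (ptB_bijective B).1 ?_, fun Z' => ?_⟩
    · obtain ⟨w, -, hu⟩ := hg _ ((hilb f d).map (ptB g) Zg)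
      exact (hu _ rfl).trans (hu _ (congrArg Subtype.val h).symm).symm
    · obtain ⟨w, hw, -⟩ := hg _ Z'
      obtain ⟨g, rfl⟩ := (ptB_bijective B).2 w
      exact ⟨g, Subtype.ext hw⟩
  let e' : ∀ B : CommAlgCat.{u} R, Grass26.Pt X' B ≃ HilbD.Obj f d (tSpec u₀ B) := fun B => Equiv.ofBijective _ (hbij' B)
  have hnat' : ∀ (A B : CommAlgCat.{u} R) (φ : A ⟶ B) (g : Grass26.Pt X' A),
      (e' B (Grass26.res φ g)).1 = HilbD.pull f (tHom u₀ φ) (e' A g).1 := by
    intro A B φ g
    show ((hilb f d).map (ptB (Grass26.res φ g)) Zg).1 = HilbD.pull f (tHom u₀ φ) ((hilb f d).map (ptB g) Zg).1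
    rw [← tHom_ptB, (hilb f d).map_comp]
    rfl
  have step : ∀ {Y Y' : Over (Spec (CommRingCat.of R))} (p : ∀ B, Grass26.Pt Y B ≃ HilbD.Obj f d (tSpec u₀ B))
      (p' : ∀ B, Grass26.Pt Y' B ≃ HilbD.Obj f d (tSpec u₀ B)),
      (∀ (A B : CommAlgCat.{u} R) (φ : A ⟶ B) (g : Grass26.Pt Y A),
        (p B (Grass26.res φ g)).1 = HilbD.pull f (tHom u₀ φ) (p A g).1) →
      (∀ (A B : CommAlgCat.{u} R) (φ : A ⟶ B) (g : Grass26.Pt Y' A),
        (p' B (Grass26.res φ g)).1 = HilbD.pull f (tHom u₀ φ) (p' A g).1) →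
      ∃ θ : Y ⟶ Y', ∀ B (g : Grass26.Pt Y B), g ≫ θ = (p' B).symm (p B g) := by
    intro Y Y' p p' hp hp'
    refine Grass26.exists_hom_of_points (fun B g => (p' B).symm (p B g)) fun A B φ x x' hx => ?_
    obtain rfl : x' = Grass26.res φ x := Over.OverMorphism.ext hx
    have h : (p' B).symm (p B (Grass26.res φ x)) = Grass26.res φ ((p' A).symm (p A x)) := (p' B).injective (by
      rw [Equiv.apply_symm_apply]
      refine Subtype.ext ?_
      rw [hp, hp', Equiv.apply_symm_apply])
    exact congrArg CategoryTheory.Over.Hom.left h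
  obtain ⟨θ, hθ⟩ := step e e' hnat hnat'
  obtain ⟨θ', hθ'⟩ := step e' e hnat' hnat
  let i₀ : H ≅ X' := ⟨θ, θ', Grass26.hom_ext_of_points fun B g => by
      rw [← Category.assoc, hθ, hθ', Equiv.apply_symm_apply, Equiv.symm_apply_apply, Category.comp_id],
    Grass26.hom_ext_of_points fun B g => by
      rw [← Category.assoc, hθ', hθ, Equiv.apply_symm_apply, Equiv.symm_apply_apply, Category.comp_id]⟩
  haveI : IsIso i₀.inv := ⟨i₀.hom, i₀.inv_hom_id, i₀.hom_inv_id⟩
  haveI : IsIso i₀.inv.left := Functor.map_isIso (Over.forget _) i₀.inv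
  show IsProper X'.hom
  rw [← Over.w i₀.inv]
  haveI : IsProper H.hom := by
    show IsProper (ι ≫ X₂.hom)
    exact MorphismProperty.comp_mem _ _ _ inferInstance inferInstance
  exact MorphismProperty.comp_mem _ _ _ inferInstance inferInstance

/-- The Hilbert scheme of points of a finite morphism is proper. -/
theorem isProper_of_isUniversal [IsFinite f] {H : Over S} {Z : HilbD.Obj f d H} (hZ : HilbD.IsUniversal f d H Z) :
    IsProper H.hom := by
  refine (IsZariskiLocalAtTarget.iff_of_iSup_eq_top (P := @IsProper) (fun U : S.affineOpens => U.1)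
    (iSup_affineOpens_eq_top S)).2 fun U => ?_
  letI : Algebra Γ(S, U) Γ(X, f ⁻¹ᵁ U.1) := (f.appLE U.1 (f ⁻¹ᵁ U.1) le_rfl).hom.toAlgebra
  haveI : Module.Finite Γ(S, U) Γ(X, f ⁻¹ᵁ U.1) := by
    show RingHom.Finite (f.appLE U.1 (f ⁻¹ᵁ U.1) le_rfl).hom
    rw [← Scheme.Hom.app_eq_appLE]
    exact IsFinite.finite_app f U.1 U.2
  have h := isProper_pullback f d (R := Γ(S, U)) (A₀ := Γ(X, f ⁻¹ᵁ U.1))
    (isPullback_fromSpec f U.2 (U.2.preimage f)) hZ
  show IsProper (H.hom ∣_ U.1)
  rw [show U.1 = U.2.fromSpec.opensRange from (IsAffineOpen.opensRange_fromSpec U.2).symm,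
    MorphismProperty.arrow_mk_iso_iff @IsProper (morphismRestrictOpensRange H.hom U.2.fromSpec)]
  rw [← pullbackSymmetry_hom_comp_fst]
  haveI := h
  exact MorphismProperty.comp_mem _ _ _ inferInstance inferInstance

end GrothLib.HilbFin26
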