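import Groth.Agent.Lib.HilbFin26.Mono
import Groth.Agent.Lib.HilbFin26.Proper
import Groth.Agent.Lib.GrassSch26.Pluecker
import Groth.Agent.Lib.ExtPowQc.Affine
import Groth.Agent.Lib.PBDeg17.Exists
import Groth.Agent.Lib.PBDeg17.OfUniv
import Groth.Agent.Lib.HomSh.Coherent
import Groth.Agent.S5729
import Groth.Agent.Lib.QCoh.Coherent
import Mathlib.LinearAlgebra.ExteriorPower.Basis

/-!
# The Hilbert scheme of points of a finite morphism is projective
-/

set_option autoImplicit false
set_option linter.style.haveILetI false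
set_option backward.isDefEq.respectTransparency false
set_option synthInstance.maxHeartbeats 200000
universe u

noncomputable section

open CategoryTheory CategoryTheory.Limits AlgebraicGeometry Opposite TopologicalSpace
open GrothLib.RepLocal GrothLib.GrassSch26
open GrothLib.ExtPowX (wedge eta)

namespace GrothLib.HilbFin26

theorem isCoh_wedge {X : Scheme.{u}} {E : X.Modules} (hE : Coh.IsCoh E) (k : ℕ) : Coh.IsCoh (wedge E k) := by
  haveI : E.IsQuasicoherent := hE.1
  haveI hq : (wedge E k).IsQuasicoherent :=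
    DetMod12.isQuasicoherent_of_isExtPow (ExtPowQc.isExtPow_wedge E k)
  refine ⟨hq, (QCoh.isFiniteType_iff_moduleFinite (wedge E k)).2 fun U hU => ?_⟩
  haveI := QCoh.moduleFinite_of_isFiniteType E hE.2 hU
  exact Module.Finite.equiv (LinearEquiv.ofBijective (eta E k U) (ExtPowQc.bijective_eta E k hU))

theorem isProjective_of_isUniversal {X S : Scheme.{u}} (f : X ⟶ S) [IsFinite f] {d : ℕ} {H : Over S}
    {Z : HilbD.Obj f d H} (hZ : HilbD.IsUniversal f d H Z) : RelProj.IsProjective H.hom := by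
  have hO := HomSh.isCoh_structureModule X
  haveI : (Coh.structureModule X).IsQuasicoherent := hO.1
  haveI : (Eo f).IsQuasicoherent := QCoh.isQuasicoherent_pushforward f _
  have hE : Coh.IsCoh (Eo f) := ⟨inferInstance, QCoh.isFiniteType_pushforward f _ hO.2⟩
  have hco := isCoh_wedge hE d
  haveI : (wedge (Eo f) d).IsQuasicoherent := hco.1
  obtain ⟨G, πG, Q, s, hG⟩ := exists_isGrass (Eo f) d
  have hm := rep_of_isGrass hG
  obtain ⟨c, hc, -⟩ := hm H (ptZ Z)
  haveI : Mono c := mono_classify hZ hm c hc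
  obtain ⟨B, hB⟩ := VA.exists_bdl (wedge (Eo f) d) hco.1
  let a := ((Scheme.Modules.pullbackPushforwardAdjunction B.p).homEquiv B.E B.O).symm B.can
  have hcan : ∀ (U : S.Opens) (hU : IsAffineOpen U) (e : Γ(B.E, U))
      (y : ↥(RelProj.emb B.p B.chart U hU ⁻¹ᵁ (B.p ⁻¹ᵁ U))),
      GrTwist.val (V := RelProj.emb B.p B.chart U hU ⁻¹ᵁ (B.p ⁻¹ᵁ U))
          ((B.lam U hU).app (B.p ⁻¹ᵁ U) ((B.can.app U) e)) y =
        algebraMap (B.S.presheaf.obj (op U)) (GrTwist.Loc (B.S.deg U hU) y.1)
          ((B.j.app U) e : B.S.presheaf.obj (op U)) := fun U hU e y => B.isCanon ⟨U, hU⟩ e y.1 y.2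
  have ha : Epi a := Groth.Agent.S5732.result B.E B.isQCoh B.S B.j B.isSym B.p B.chart B.isProj B.O B.lam B.isTwist B.can hcan
  have hP : KRR.IsProjBundle B.p B.E B.O a := ⟨PBDeg.rankOne_iff.2 B.isInvertible, ha, fun T g L hL s hs =>
    Groth.Agent.S5733.result B.E B.isQCoh B.S B.j B.isSym B.p B.chart B.isProj B.O B.lam B.isTwist B.can hcan
      (X := T) g L (PBDeg.rankOne_iff.1 hL) s hs⟩
  have hsym := B.isSym
  have hft : CohB1.IsFT B.E := hB ▸ hco.2
  have hproj : RelProj.IsProjective B.p :=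
    (Groth.Agent.S5729.result B.p).2 ⟨B.E, B.S, B.j, B.P, B.p, B.chart, 𝟙 B.P, B.isQCoh, hft, B.isSym, B.isProj,
      inferInstance, Category.id_comp _⟩
  haveI : IsProper B.p := ProjAlg.isProper_of_isProjective hproj
  revert a ha hcan hP hsym hft hproj
  obtain ⟨BE, hBq, BS, Bj, hBs, BP, Bp, Bch, hBp, BO, Blam, hBt, Bcan, hBc⟩ := B
  obtain rfl := hB
  intro a hcan ha hP hsym hft hproj
  obtain ⟨cG, hcG⟩ := exists_closedImmersion hm (rep_of_isGrass (Grass.IsGrass.of_isProjBundle hP))
  haveI := hcG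
  haveI : IsProper H.hom := isProper_of_isUniversal f d hZ
  haveI : IsSeparated Bp := inferInstance
  haveI : IsProper πG := by
    rw [show πG = cG.left ≫ Bp from (Over.w cG).symm]
    exact MorphismProperty.comp_mem _ _ _ inferInstance inferInstance
  haveI : IsProper c.left := by
    haveI : IsProper (c.left ≫ πG) := by
      rw [show c.left ≫ πG = H.hom from Over.w c]; infer_instance
    exact IsProper.of_comp c.left πG
  haveI : Mono c.left := inferInstanceAs (Mono ((Over.forget _).map c))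
  have hci : IsClosedImmersion c.left := (IsClosedImmersion.iff_isProper_and_mono c.left).2 ⟨inferInstance, inferInstance⟩
  haveI := hci
  refine (Groth.Agent.S5729.result H.hom).2 ⟨_, BS, Bj, BP, Bp, Bch, c.left ≫ cG.left, hBq, hft, hBs, hBp,
    inferInstance, ?_⟩
  rw [Category.assoc, show cG.left ≫ Bp = πG from Over.w cG]
  exact Over.w c

end GrothLib.HilbFin26
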