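import Groth.Agent.Lib.GrassSch26.Pluecker
import Groth.Agent.Lib.HomCorep20.Fibre
import Groth.Agent.Lib.FEt21.Degree
import Groth.Agent.Lib.Hilb26.Functor
import Mathlib.AlgebraicGeometry.Morphisms.Flat

/-!
# The quotient of the direct image attached to a finite family of points
-/

set_option autoImplicit false
set_option linter.style.haveILetI false
set_option backward.isDefEq.respectTransparency false
set_option synthInstance.maxHeartbeats 200000
universe u

noncomputable section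

open CategoryTheory CategoryTheory.Limits AlgebraicGeometry Opposite TopologicalSpace
open GrothLib.QCoh (stalkLin stalkLin_comp stalkLin_germ germ_map)
open GrothLib.QuotTan26 GrothLib.GrassCat26 GrothLib.RepLocal GrothLib.GrassSch26
open GrothLib.BCCoh (pullRes)

namespace GrothLib.HilbFin26

/-- A pushout of rings is spanned over one factor by the other. -/
theorem span_range_of_isPushout {R A B P : CommRingCat.{u}} {f : R ⟶ A} {g : R ⟶ B} {i : A ⟶ P} {j : B ⟶ P}
    (h : IsPushout f g i j) :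
    letI : Algebra A P := i.hom.toAlgebra
    Submodule.span A (Set.range j.hom) = ⊤ := by
  letI : Algebra A P := i.hom.toAlgebra
  let Sb : Subalgebra A P := Algebra.adjoin A (Set.range j.hom)
  have hSb : Subalgebra.toSubmodule Sb = Submodule.span A (Set.range j.hom) := by
    rw [Algebra.adjoin_eq_span, show Set.range j.hom = (MonoidHom.mrange j.hom.toMonoidHom : Set P) from rfl,
      Submonoid.closure_eq]
  rw [← hSb, Algebra.toSubmodule_eq_top, eq_top_iff]
  intro p _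
  let i' : A ⟶ CommRingCat.of Sb := CommRingCat.ofHom (i.hom.codRestrict Sb fun x => Sb.algebraMap_mem x)
  let j' : B ⟶ CommRingCat.of Sb :=
    CommRingCat.ofHom (j.hom.codRestrict Sb fun x => Algebra.subset_adjoin ⟨x, rfl⟩)
  have hw : f ≫ i' = g ≫ j' := by
    ext x
    exact ConcreteCategory.congr_hom h.w x
  have hd : h.desc i' j' hw ≫ CommRingCat.ofHom Sb.val.toRingHom = 𝟙 P :=
    h.hom_ext (by rw [h.inl_desc_assoc, Category.comp_id]; rfl) (by rw [h.inr_desc_assoc, Category.comp_id]; rfl)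
  rw [show p = (Sb.val.toRingHom) ((h.desc i' j' hw).hom p) from (ConcreteCategory.congr_hom hd p).symm]
  exact Subtype.property _

variable {X S : Scheme.{u}} (f : X ⟶ S) {d : ℕ}

/-- The direct image of the structure sheaf. -/
abbrev Eo : S.Modules := (Scheme.Modules.pushforward f).obj (Coh.structureModule X)

variable {f} {T : Over S} (Z : HilbD.Obj f d T)

/-- The structure morphism of a family. -/
abbrev pZ : Z.1.subscheme ⟶ T.left := Z.1.subschemeι ≫ PicF.XTproj f T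

/-- The map of a family to the scheme. -/
abbrev zZ : Z.1.subscheme ⟶ X := Z.1.subschemeι ≫ pullback.fst f T.hom

theorem zZ_f : zZ Z ≫ f = pZ Z ≫ T.hom := by
  rw [Category.assoc, Category.assoc]
  exact congrArg _ pullback.condition

/-- The direct image of a family. -/
abbrev Qz : T.left.Modules := (Scheme.Modules.pushforward (pZ Z)).obj (Coh.structureModule Z.1.subscheme)

theorem isFinLocFreeOfRank_Qz : FlatMod.IsFinLocFreeOfRank d (Qz Z) := by
  obtain ⟨⟨h1, h2, h3⟩, h4⟩ := Z.2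
  haveI := h1
  haveI := h2
  haveI := h3
  exact FEt21.isFinLocFreeOfRank_of_finrank (pZ Z) d h4

/-- The adjoint of the quotient. -/
def psiZ : Eo f ⟶ (Scheme.Modules.pushforward T.hom).obj (Qz Z) :=
  (Scheme.Modules.pushforward f).map (HomCorep20.etaO (zZ Z)) ≫
    (Scheme.Modules.pushforwardComp (zZ Z) f).hom.app _ ≫
    (Scheme.Modules.pushforwardCongr (zZ_f Z)).hom.app _ ≫
    (Scheme.Modules.pushforwardComp (pZ Z) T.hom).inv.app _

/-- The quotient attached to a family. -/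
def qZ : EP (Eo f) T ⟶ Qz Z :=
  ((Scheme.Modules.pullbackPushforwardAdjunction T.hom).homEquiv _ _).symm (psiZ Z)

theorem preimage_le {U : S.Opens} {V : T.left.Opens} (hV : V ≤ T.hom ⁻¹ᵁ U) :
    pZ Z ⁻¹ᵁ V ≤ zZ Z ⁻¹ᵁ (f ⁻¹ᵁ U) := by
  intro x hx
  show f (zZ Z x) ∈ U
  rw [← Scheme.Hom.comp_apply, zZ_f, Scheme.Hom.comp_apply]
  exact hV hx

/-- A function on the scheme, on the family. -/
def zsec (U : S.Opens) (V : T.left.Opens) (hV : V ≤ T.hom ⁻¹ᵁ U) (m : Γ(X, f ⁻¹ᵁ U)) : Γ(Qz Z, V) :=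
  ((zZ Z).appLE (f ⁻¹ᵁ U) (pZ Z ⁻¹ᵁ V) (preimage_le Z hV) m : Γ(Z.1.subscheme, pZ Z ⁻¹ᵁ V))

theorem psiZ_app (U : S.Opens) (m : Γ(X, f ⁻¹ᵁ U)) :
    (psiZ Z).app U m = zsec Z U (T.hom ⁻¹ᵁ U) le_rfl m := by
  simp only [psiZ, Scheme.Modules.Hom.comp_app, ConcreteCategory.comp_apply]
  erw [HomCorep20.etaO_app (zZ Z) (f ⁻¹ᵁ U) m]
  rfl

theorem map_zsec {U : S.Opens} {V V' : T.left.Opens} (hV : V ≤ T.hom ⁻¹ᵁ U) (h : V' ≤ V) (m : Γ(X, f ⁻¹ᵁ U)) :
    (Qz Z).presheaf.map (homOfLE h).op (zsec Z U V hV m) = zsec Z U V' (h.trans hV) m :=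
  ConcreteCategory.congr_hom (Scheme.Hom.appLE_map (zZ Z) (preimage_le Z hV)
    (homOfLE ((pZ Z).preimage_mono h)).op) m

theorem qZ_pullSec (U : S.Opens) (m : Γ(X, f ⁻¹ᵁ U)) :
    (qZ Z).app (T.hom ⁻¹ᵁ U) (OX.pullSec T.hom (Eo f) U (m : Γ(Eo f, U))) = zsec Z U (T.hom ⁻¹ᵁ U) le_rfl m := by
  rw [← psiZ_app]
  refine (homEquiv_app T.hom (qZ Z) U (m : Γ(Eo f, U))).symm.trans ?_
  rw [qZ, Equiv.apply_symm_apply]

theorem qZ_gS {U : S.Opens} {V : T.left.Opens} (hV : V ≤ T.hom ⁻¹ᵁ U) (t : T.left) (ht : t ∈ V)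
    (m : Γ(X, f ⁻¹ᵁ U)) :
    stalkLin (qZ Z) t (gS (Eo f) T t (hV ht) (m : Γ(Eo f, U))) = (Qz Z).presheaf.germ V t ht (zsec Z U V hV m) := by
  refine (congrArg (stalkLin (qZ Z) t) (uS_germ T.hom (Eo f) t (hV ht) (m : Γ(Eo f, U)))).trans ?_
  refine (stalkLin_germ (qZ Z) (U := T.hom ⁻¹ᵁ U) (hV ht) _).trans ?_
  refine (congrArg _ (qZ_pullSec Z U m)).trans ?_
  rw [← map_zsec Z le_rfl hV m]
  exact (germ_map _ _ _ _).symm

/-- The functions on a family over an affine piece are spanned by functions on the scheme. -/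
theorem span_zsec [IsAffineHom f] {U : S.Opens} (hU : IsAffineOpen U) {V : T.left.Opens} (hV : IsAffineOpen V)
    (h : V ≤ T.hom ⁻¹ᵁ U) : Submodule.span Γ(T.left, V) (Set.range (zsec Z U V h)) = ⊤ := by
  let Y := PicF.XT f T
  let W : Y.Opens := PicF.XTproj f T ⁻¹ᵁ V
  have hsq : IsPullback (pullback.fst f T.hom) (PicF.XTproj f T) f T.hom := IsPullback.of_hasPullback f T.hom
  have hW : W = pullback.fst f T.hom ⁻¹ᵁ (f ⁻¹ᵁ U) ⊓ PicF.XTproj f T ⁻¹ᵁ V := by
    refine (inf_eq_right.2 fun y hy => ?_).symm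
    show f (pullback.fst f T.hom y) ∈ U
    rw [← Scheme.Hom.comp_apply, hsq.w, Scheme.Hom.comp_apply]
    exact h hy
  haveI := isIso_pushoutSection_of_isAffineOpen hsq h (le_refl (f ⁻¹ᵁ U)) hW hU hV (hU.preimage f)
  have hpo := (isIso_pushoutSection_iff hsq h (le_refl (f ⁻¹ᵁ U)) hW).1 inferInstance
  have hspan := span_range_of_isPushout hpo.flip
  letI : Algebra Γ(T.left, V) Γ(Y, W) :=
    ((PicF.XTproj f T).appLE V W (hW.le.trans inf_le_right)).hom.toAlgebra
  haveI : IsAffineHom (PicF.XTproj f T) := MorphismProperty.pullback_snd _ _ ‹_›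
  refine eq_top_iff.2 fun x _ => ?_
  obtain ⟨w, hw⟩ := Scheme.IdealSheafData.subschemeι_app_surjective Z.1 ⟨W, hV.preimage (PicF.XTproj f T)⟩
    (x : Γ(Z.1.subscheme, pZ Z ⁻¹ᵁ V))
  have hwm : w ∈ Submodule.span Γ(T.left, V) _ := hspan.ge (Submodule.mem_top (x := w))
  suffices h0 : (show Γ(Qz Z, V) from Z.1.subschemeι.app W w) ∈
      Submodule.span Γ(T.left, V) (Set.range (zsec Z U V h)) by
    exact hw ▸ h0
  clear hw
  induction hwm using Submodule.span_induction with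
  | mem w hw =>
    obtain ⟨m, rfl⟩ := hw
    refine Submodule.subset_span ⟨m, ?_⟩
    show (zZ Z).appLE _ _ (preimage_le Z h) m = Z.1.subschemeι.app W _
    rw [Scheme.Hom.app_eq_appLE, ← ConcreteCategory.comp_apply, Scheme.Hom.appLE_comp_appLE]
    rfl
  | zero => simp only [map_zero]; exact zero_mem _
  | add a b _ _ ha hb => simp only [map_add]; exact add_mem ha hb
  | smul c a _ ha =>
    have e : (show Γ(Qz Z, V) from Z.1.subschemeι.app W (c • a)) =
        c • (show Γ(Qz Z, V) from Z.1.subschemeι.app W a) := by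
      show Z.1.subschemeι.app W (c • a) =
        (show Γ(Z.1.subscheme, Z.1.subschemeι ⁻¹ᵁ W) from (pZ Z).app V c) * Z.1.subschemeι.app W a
      rw [Algebra.smul_def, map_mul, RingHom.algebraMap_toAlgebra]
      refine congrArg (· * _) ?_
      show _ = (Z.1.subschemeι ≫ PicF.XTproj f T).app V c
      rw [Scheme.Hom.comp_app, ← Scheme.Hom.app_eq_appLE]
      rfl
    rw [e]
    exact Submodule.smul_mem _ c ha

theorem epi_qZ [IsAffineHom f] : Epi (qZ Z) := by
  refine (OX.epi_iff _).2 fun t => (ModuleCat.epi_iff_surjective _).2 fun v => ?_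
  obtain ⟨W, htW, x, rfl⟩ := (Qz Z).presheaf.exists_germ_eq v
  obtain ⟨U, hU, htU, -⟩ := exists_isAffineOpen_mem_and_subset (x := T.hom t) (U := ⊤) trivial
  obtain ⟨V, hV, htV, hle⟩ := exists_isAffineOpen_mem_and_subset (x := t) (U := T.hom ⁻¹ᵁ U ⊓ W) ⟨htU, htW⟩
  have hVU : V ≤ T.hom ⁻¹ᵁ U := fun y hy => (hle hy).1
  have hVW : V ≤ W := fun y hy => (hle hy).2
  have hx := (span_zsec Z hU hV hVU).ge (Submodule.mem_top (x := (Qz Z).presheaf.map (homOfLE hVW).op x))
  suffices h : (Qz Z).presheaf.germ V t htV ((Qz Z).presheaf.map (homOfLE hVW).op x) ∈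
      LinearMap.range (stalkLin (qZ Z) t) by
    obtain ⟨w, hw⟩ := h
    exact ⟨w, hw.trans (germ_map _ _ _ _)⟩
  generalize (Qz Z).presheaf.map (homOfLE hVW).op x = y at hx ⊢
  induction hx using Submodule.span_induction with
  | mem y hy =>
    obtain ⟨m, rfl⟩ := hy
    exact ⟨_, qZ_gS Z hVU t htV m⟩
  | zero => rw [map_zero]; exact zero_mem _
  | add a b _ _ ha hb => rw [map_add]; exact add_mem ha hb
  | smul c a _ ha => rw [WeakAss.germ_smul]; exact Submodule.smul_mem _ _ ha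

theorem app_secT_nu [(Eo f).IsQuasicoherent] (U : S.affineOpens) (V : T.left.Opens) (hV : V ≤ T.hom ⁻¹ᵁ U.1)
    (a : opn T V ⟶ S0 U) (e : (⊤ : (opn T V).left.Opens) ≤ V.ι ⁻¹ᵁ V) (m : Γ(X, f ⁻¹ᵁ U.1)) :
    (bc (opnι T V) (qZ Z)).app ⊤ (secT a (nu U (Eo f) (m : Γ(Eo f, U.1)))) =
      pullRes V.ι (Qz Z) V ⊤ e (zsec Z U.1 V hV m) := by
  refine section_ext fun t _ => ?_
  have ht : (opn T V).hom t ∈ U.1 := hV t.2
  rw [← stalkLin_germ, germ_secT_nu U a t ht]
  have h1 := th_gS (E := Eo f) (opnι T V) t (hV t.2) ht (show Γ(Eo f, U.1) from m)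
  refine (congrArg (stalkLin (bc (opnι T V) (qZ Z)) t) h1.symm).trans ?_
  refine (bc_th (opnι T V) (qZ Z) t _).trans ?_
  refine (congrArg (uS (opnι T V).left (Qz Z) t) (qZ_gS Z hV ((opnι T V).left t) t.2 m)).trans ?_
  refine (uS_germ (opnι T V).left (Qz Z) t (U := V) t.2 _).trans ?_
  exact (germ_map _ _ _ _).symm

end GrothLib.HilbFin26
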